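import Cfsg.Agent.Walter.Setting
import Cfsg.Agent.Walter.CI.Final
import Cfsg.Agent.AbCentMax.Final
import Cfsg.Agent.PSLBinary.Upper
import Cfsg.Agent.Classical.Misc.SmallPSL
import Cfsg.Agent.S0276

/-!
Consequences of the types in Walter's theorem.
-/

set_option autoImplicit false
set_option linter.unusedSectionVars false
set_option linter.style.haveILetI false

namespace Cfsg.Lib.Walter.Consumers

open Subgroup
open scoped Pointwise

universe u v

theorem sylow_sq_equiv {A : Type u} {B : Type v} [Group A] [Finite A] [Group B] [Finite B] (e : A ≃* B)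
    (h : ∀ P : Sylow 2 B, ∀ x ∈ (P : Subgroup B), x * x = 1) (P : Sylow 2 A) :
    ∀ x ∈ (P : Subgroup A), x * x = 1 := by
  haveI : Fact (Nat.Prime 2) := ⟨Nat.prime_two⟩
  intro x hx
  have he : Function.Surjective e.toMonoidHom := e.surjective
  have h1 := h (P.mapSurjective he) (e x) (mem_map_of_mem _ hx)
  rw [← map_mul] at h1
  exact e.injective (h1.trans (map_one e).symm)

theorem sylow_sq_of_one {A : Type u} [Group A] [Finite A] (P₀ : Sylow 2 A)
    (h : ∀ x ∈ (P₀ : Subgroup A), x * x = 1) (P : Sylow 2 A) : ∀ x ∈ (P : Subgroup A), x * x = 1 := by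
  haveI : Fact (Nat.Prime 2) := ⟨Nat.prime_two⟩
  obtain ⟨g, rfl⟩ := MulAction.exists_smul_eq A P₀ P
  intro x hx
  rw [Sylow.coe_subgroup_smul] at hx
  obtain ⟨y, hy, rfl⟩ := hx
  show g * y * g⁻¹ * (g * y * g⁻¹) = 1
  rw [show g * y * g⁻¹ * (g * y * g⁻¹) = g * (y * y) * g⁻¹ by group, h y hy, mul_one, mul_inv_cancel]

/-- the Sylow 2-subgroups of `PSL(2, 2ⁿ)` are elementary -/
theorem binary_sylow_sq {F : Type} [Field F] [Fintype F] {n : ℕ} (hn : 2 ≤ n) (hF : Fintype.card F = 2 ^ n)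
    (P : Sylow 2 (Matrix.ProjectiveSpecialLinearGroup (Fin 2) F)) :
    ∀ x ∈ (P : Subgroup (Matrix.ProjectiveSpecialLinearGroup (Fin 2) F)), x * x = 1 := by
  classical
  haveI : Fact (Nat.Prime 2) := ⟨Nat.prime_two⟩
  have hch : ringChar F = 2 := by
    have hp := CharP.char_is_prime F (ringChar F)
    obtain ⟨m, -, hm⟩ := FiniteField.card F (ringChar F)
    have h2 : 2 ∣ ringChar F := by
      apply Nat.Prime.dvd_of_dvd_pow Nat.prime_two (n := (m : ℕ))
      rw [← hm, hF]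
      exact dvd_pow_self 2 (by omega)
    exact ((Nat.prime_dvd_prime_iff_eq Nat.prime_two hp).1 h2).symm
  have h2 : ∀ b : F, b + b = 0 := fun b => by
    haveI : CharP F 2 := hch ▸ ringChar.charP F
    exact CharTwo.add_self_eq_zero b
  set U : Subgroup (Matrix.ProjectiveSpecialLinearGroup (Fin 2) F) := Cfsg.Lib.PSLBinary.uSub with hU
  have hcard : Nat.card U = 2 ^ n := by
    rw [← hF, ← Nat.card_eq_fintype_card]
    refine (Nat.card_eq_of_bijective (fun b => (⟨_, b, rfl⟩ : U)) ⟨fun a b h => ?_, fun ⟨g, b, hb⟩ => ⟨b, Subtype.ext hb⟩⟩).symm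
    exact Cfsg.Lib.PSLBinary.up_injective (congrArg Subtype.val h)
  obtain ⟨P₀, hP₀⟩ := (IsPGroup.of_card hcard).exists_le_sylow
  have hle : (P₀ : Subgroup _) = U := by
    refine (eq_of_le_of_card_ge hP₀ ?_).symm
    have h := Cfsg.Lib.Classical.SmallPSL.card_psl hF
    have hodd : Nat.gcd 2 (2 ^ n - 1) = 1 := by
      refine (Nat.prime_two.coprime_iff_not_dvd).2 fun hd => ?_
      have h2n : 2 ∣ 2 ^ n := dvd_pow_self 2 (by omega)
      have := Nat.one_le_two_pow (n := n)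
      omega
    rw [hodd, one_mul] at h
    obtain ⟨m, hm⟩ := IsPGroup.iff_card.1 P₀.2
    have hd : 2 ^ m ∣ 2 ^ n * ((2 ^ n) ^ 2 - 1) := h ▸ hm ▸ card_subgroup_dvd_card _
    have hco : (2 ^ m).Coprime ((2 ^ n) ^ 2 - 1) := by
      refine Nat.Coprime.pow_left m ((Nat.prime_two.coprime_iff_not_dvd).2 fun hd' => ?_)
      have h2n : 2 ∣ (2 ^ n) ^ 2 := dvd_pow (dvd_pow_self 2 (by omega)) two_ne_zero
      have := Nat.one_le_pow 2 (2 ^ n) (Nat.two_pow_pos n)
      omega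
    rw [hm, hcard]
    exact Nat.le_of_dvd (Nat.two_pow_pos n) (hco.dvd_of_dvd_mul_right hd)
  refine sylow_sq_of_one P₀ (fun x hx => ?_) P
  obtain ⟨b, rfl⟩ := hle.le hx
  rw [← map_mul, Cfsg.Lib.PSLBinary.up_mul, h2, Cfsg.Lib.PSLBinary.up_zero, map_one]

theorem elem_of_typed {X : Type u} [Group X] [Finite X] (h : Typed X)
    (hab : ∀ S : Sylow 2 X, IsMulCommutative (S : Subgroup X)) (P : Sylow 2 X) :
    ∀ x ∈ (P : Subgroup X), x * x = 1 := by
  rcases h with ⟨F, _, _, ⟨n, hn, hF⟩, ⟨e⟩⟩ | ⟨F, _, _, h8, -, ⟨e⟩⟩ | ⟨-, t, E, E₀, F, _, _, -, -, hH⟩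
  · exact sylow_sq_equiv e (binary_sylow_sq hn hF) P
  · refine sylow_sq_equiv e (fun Q x hx => ?_) P
    haveI := Cfsg.Agent.S0276.result rfl h8 Q
    exact congrArg Subtype.val (IsKleinFour.mul_self (⟨x, hx⟩ : ↥(Q : Subgroup _)))
  · obtain ⟨T, a, b, n, S⟩ := Cfsg.Lib.AbCentMax.exists_sys hH hab
    refine sylow_sq_of_one T (fun x hx => ?_) P
    have hsq : ∀ v, (v = 1 ∨ v = a ∨ v = b ∨ v = a * b) → v ∈ (T : Subgroup X) ∧ v * v = 1 := by
      rintro v (rfl | rfl | rfl | rfl)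
      · exact ⟨one_mem _, one_mul 1⟩
      · exact ⟨S.aT, Cfsg.Lib.AbCentMax.aa hH S⟩
      · exact ⟨S.bT, Cfsg.Lib.AbCentMax.bb hH S⟩
      · refine ⟨(T : Subgroup X).mul_mem S.aT S.bT, ?_⟩
        rw [← pow_two, (Cfsg.Lib.AbCentMax.ab_comm hH S).mul_pow, pow_two, pow_two, Cfsg.Lib.AbCentMax.aa hH S,
          Cfsg.Lib.AbCentMax.bb hH S, one_mul]
    obtain ⟨v, hv, r | r⟩ := S.cases x hx
    · exact r ▸ (hsq v hv).2
    · obtain ⟨hvT, hv2⟩ := hsq v hv
      rw [r, ← pow_two, (S.tcomm t S.tT v hvT).mul_pow, pow_two, pow_two, hH.tt, hv2, one_mul]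

theorem elemProp_of_walter (w : WalterProp.{u}) : CI.ElemProp.{u} := by
  intro X _ _ _ hna P hP
  haveI : Fact (Nat.Prime 2) := ⟨Nat.prime_two⟩
  have hall : ∀ S : Sylow 2 X, IsMulCommutative (S : Subgroup X) := fun S => by
    haveI := hP
    exact ⟨⟨fun a b => (P.equiv S).symm.injective (by rw [map_mul, map_mul]; exact mul_comm' _ _)⟩⟩
  refine elem_of_typed (w X hna fun S x hx y hy => ?_) hall P
  haveI := hall S
  exact congrArg Subtype.val (mul_comm' (⟨x, hx⟩ : ↥(S : Subgroup X)) ⟨y, hy⟩)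

end Cfsg.Lib.Walter.Consumers
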