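import Cfsg.Agent.Walter.Consumers.Types
import Cfsg.Prelude.Def_Sz
import Cfsg.Prelude.Def_Classical

/-!
Simple groups with central Sylow 2-intersections, from Walter's theorem (row 3182).
-/

set_option autoImplicit false
set_option linter.unusedSectionVars false
set_option linter.style.haveILetI false

namespace Cfsg.Lib.Walter.Consumers

open Subgroup

universe u

/-- `PSL(2, 4)` in odd characteristic -/
theorem exists_five_of_four {X : Type u} [Group X] {F : Type} [Field F] [Fintype F] (hF : Fintype.card F = 4)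
    (e : X ≃* Matrix.ProjectiveSpecialLinearGroup (Fin 2) F) :
    ∃ (K : Type) (_ : Field K) (_ : Fintype K), Fintype.card K = 5 ∧
      Nonempty (X ≃* Matrix.ProjectiveSpecialLinearGroup (Fin 2) K) := by
  haveI : Fact (Nat.Prime 5) := ⟨by norm_num⟩
  obtain ⟨f⟩ := Cfsg.Lib.Classical.SmallPSL.psl_four hF
  obtain ⟨g⟩ := Cfsg.Lib.Classical.SmallPSL.psl_five (F := ZMod 5) (ZMod.card 5)
  exact ⟨ZMod 5, inferInstance, inferInstance, ZMod.card 5, ⟨(e.trans f).trans g.symm⟩⟩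

/-- the three families for a simple group with a strongly embedded subgroup -/
theorem ident_of_embedded {X : Type u} [Group X] [Finite X] [IsSimpleGroup X] (hna : ¬ IsMulCommutative X)
    (hH : ∃ H : Subgroup X, Cfsg.IsStronglyEmbedded H) : Cfsg.Lib.BenderSuzuki.Ident X := by
  obtain ⟨H, hH⟩ := hH
  have hS : Cfsg.Lib.BenderSE.Setting H :=
    ⟨hH, Cfsg.Lib.BenderSE.normalCore_eq_bot_of_simple hH, Cfsg.Lib.BenderSE.comm_of_nonab hH hna⟩
  obtain ⟨L, Q, F⟩ := Cfsg.Lib.BenderSE.exists_frame Cfsg.Lib.BenderSE.regProp hS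
  have hL : L = ⊤ := (IsSimpleGroup.eq_bot_or_eq_top_of_normal L F.normal).resolve_left fun e =>
    F.nonab (by subst e; exact ⟨⟨fun a b => Subsingleton.elim _ _⟩⟩)
  subst hL
  rcases F.ident with ⟨K, i, j, hn, ⟨e⟩⟩ | ⟨K, i, j, m, hm, hK, ⟨e⟩⟩ | ⟨K, i, j, n, hn, hK, ⟨e⟩⟩
  · exact Or.inl ⟨K, i, j, hn, ⟨topEquiv.symm.trans e⟩⟩
  · exact Or.inr (Or.inl ⟨K, i, j, m, hm, hK, ⟨topEquiv.symm.trans e⟩⟩)
  · exact Or.inr (Or.inr ⟨K, i, j, n, hn, hK, ⟨topEquiv.symm.trans e⟩⟩)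

theorem binary_mod_eight {X : Type u} [Group X] {F : Type} [Field F] [Fintype F] {n : ℕ} (hn : 2 ≤ n)
    (hF : Fintype.card F = 2 ^ n) (e : X ≃* Matrix.ProjectiveSpecialLinearGroup (Fin 2) F) :
    ∃ (K : Type) (_ : Field K) (_ : Fintype K),
      (Fintype.card K % 8 = 0 ∨ Fintype.card K % 8 = 3 ∨ Fintype.card K % 8 = 5) ∧
        Nonempty (X ≃* Matrix.ProjectiveSpecialLinearGroup (Fin 2) K) := by
  rcases hn.eq_or_lt with rfl | h3
  · obtain ⟨K, i, j, hK, hK'⟩ := exists_five_of_four (by rw [hF]; norm_num) e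
    exact ⟨K, i, j, Or.inr (Or.inr (by rw [hK])), hK'⟩
  · refine ⟨F, inferInstance, inferInstance, Or.inl ?_, ⟨e⟩⟩
    rw [hF, show n = n - 3 + 3 by omega, pow_add]
    exact Nat.mul_mod_left _ 8

/-- the conclusion of row 3182 from Walter's theorem -/
theorem simple_central_intersections (w : WalterProp.{u}) {G : Type u} [Group G] [Finite G] [IsSimpleGroup G]
    (hG : ¬ IsMulCommutative G)
    (hCI : ∀ S T : Sylow 2 G, S ≠ T → ∃ U : Sylow 2 G,
      (S : Subgroup G) ⊓ (T : Subgroup G) ≤ (Subgroup.center ↥(U : Subgroup G)).map (U : Subgroup G).subtype) :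
    (∃ (F : Type) (_ : Field F) (_ : Fintype F),
        (Fintype.card F % 8 = 0 ∨ Fintype.card F % 8 = 3 ∨ Fintype.card F % 8 = 5) ∧
        Nonempty (G ≃* Matrix.ProjectiveSpecialLinearGroup (Fin 2) F)) ∨
    ((∀ S : Sylow 2 G, IsMulCommutative ↥(S : Subgroup G)) ∧
      ∃ t : G, orderOf t = 2 ∧ IsCoatom (Subgroup.centralizer ({t} : Set G)) ∧
        ∃ E : Subgroup G, Cfsg.IsInternalDirectProduct (Subgroup.zpowers t) E (Subgroup.centralizer ({t} : Set G)) ∧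
          ∃ (F : Type) (_ : Field F) (_ : Fintype F), Odd (Fintype.card F) ∧ 3 < Fintype.card F ∧
            ∃ N : Subgroup ↥E, N.Normal ∧ Nonempty (↥N ≃* Matrix.ProjectiveSpecialLinearGroup (Fin 2) F) ∧
              Subgroup.centralizer (N : Set ↥E) = ⊥) ∨
    (∃ (m : ℕ) (F : Type) (_ : Field F) (_ : Fintype F), 1 ≤ m ∧ Fintype.card F = 2 ^ (2 * m + 1) ∧
        Nonempty (G ≃* ↥(Cfsg.Lie.Sz F (2 ^ (m + 1))))) ∨
    (∃ (n : ℕ) (F : Type) (_ : Field F) (_ : Fintype F), 2 ≤ n ∧ Fintype.card F = 4 ^ n ∧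
        Nonempty (G ≃* Cfsg.PSU 3 F (2 ^ n))) := by
  classical
  haveI : Fact (Nat.Prime 2) := ⟨Nat.prime_two⟩
  obtain ⟨S⟩ : Nonempty (Sylow 2 G) := inferInstance
  by_cases hS : IsMulCommutative ↥(S : Subgroup G)
  swap
  · rcases ident_of_embedded hG (CI.exists_embedded (elemProp_of_walter w) G hG (CI.isCI_of_hyp hCI) S hS) with
      ⟨F, _, _, ⟨n, hn, hF⟩, ⟨e⟩⟩ | ⟨F, i, j, m, hm, hF, he⟩ | ⟨F, i, j, n, hn, hF, he⟩
    · exact Or.inl (binary_mod_eight hn hF e)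
    · exact Or.inr (Or.inr (Or.inl ⟨m, F, i, j, hm, hF, he⟩))
    · refine Or.inr (Or.inr (Or.inr ⟨n, F, i, j, hn, ?_, he⟩))
      rw [hF, ← pow_mul, mul_comm, pow_mul]
      norm_num
  have hall : ∀ T : Sylow 2 G, IsMulCommutative ↥(T : Subgroup G) := fun T => by
    haveI := hS
    exact ⟨⟨fun a b => (S.equiv T).symm.injective (by rw [map_mul, map_mul]; exact mul_comm' _ _)⟩⟩
  have hab : AbTwo G := fun T x hx y hy => by
    haveI := hall T
    exact congrArg Subtype.val (mul_comm' (⟨x, hx⟩ : ↥(T : Subgroup G)) ⟨y, hy⟩)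
  rcases w G hG hab with ⟨F, _, _, ⟨n, hn, hF⟩, ⟨e⟩⟩ | ⟨F, i, j, h8, -, he⟩ |
    ⟨-, t, E, E₀, F, i, j, h5, h8, hH⟩
  · exact Or.inl (binary_mod_eight hn hF e)
  · exact Or.inl ⟨F, i, j, Or.inr h8, he⟩
  refine Or.inr (Or.inl ⟨hall, t, hH.ord, Cfsg.Lib.AbCentMax.centralizer_isCoatom hG hH hall, E, ?_,
    F, i, j, hH.odd, by omega, E₀.subgroupOf E, ⟨fun x hx e => hH.norm e e.2 x hx⟩, ?_, ?_⟩)
  · have ht : zpowers t ≤ centralizer ({t} : Set G) :=
      zpowers_le.2 (mem_centralizer_singleton_iff.2 rfl)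
    have hE : E ≤ centralizer ({t} : Set G) := fun x hx => mem_centralizer_singleton_iff.2 (hH.comm x hx).eq.symm
    refine ⟨ht, hE, fun a ha b hb => ?_, ?_, le_antisymm (sup_le ht hE) fun x hx => ?_⟩
    · obtain ⟨k, rfl⟩ := mem_zpowers_iff.1 ha
      exact ((hH.comm b hb).zpow_left k).eq
    · refine (eq_bot_iff_forall _).2 fun x ⟨hx, hxE⟩ => ?_
      obtain ⟨k, rfl⟩ := mem_zpowers_iff.1 hx
      rcases Int.even_or_odd k with ⟨c, rfl⟩ | ⟨c, rfl⟩
      · show t ^ (c + c) = 1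
        rw [← two_mul, zpow_mul, show t ^ (2 : ℤ) = t * t from zpow_two t, hH.tt, one_zpow]
      · refine absurd ?_ hH.disj
        rwa [zpow_add, zpow_mul, show t ^ (2 : ℤ) = t * t from zpow_two t, hH.tt, one_zpow, one_mul, zpow_one] at hxE
    · obtain ⟨e, he, rfl | rfl⟩ := hH.split x (mem_centralizer_singleton_iff.1 hx)
      · exact mem_sup_right he
      · exact mul_mem_sup (mem_zpowers t) he
  · exact hH.iso.map (subgroupOfEquivOfLe hH.le).trans
  · refine (eq_bot_iff_forall _).2 fun x hx => Subtype.ext (hH.faith x x.2 fun y hy => ?_)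
    exact (congrArg Subtype.val (mem_centralizer_iff.1 hx ⟨y, hH.le hy⟩ hy)).symm

end Cfsg.Lib.Walter.Consumers
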